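import Groth.Agent.Etbc.H201.RealClosed
import Mathlib.Algebra.QuadraticAlgebra.NormDeterminant
import Mathlib.RingTheory.Norm.Defs
import Mathlib.FieldTheory.Perfect
import Mathlib.FieldTheory.IsAlgClosed.Basic

/-!
# Real closed fields from a homomorphism killing norms

* `IsRC R` : `-1` is not a square, `a` or `-a` is a square, `1 + y²` is a square, no finite extensions of odd degree;
* `IsRC.isSepClosed_quad` : then `R(√-1)` is separably closed;
* `isRC_of_hom` : a field with a homomorphism `φ : Rˣ → A` killing the norms from all proper finite extensions,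
  `φ(-1) ≠ 0`, `-1` not a square, is `IsRC`.
-/

set_option autoImplicit false

universe u v

open Polynomial

namespace Groth.Agent.Dix.K406.RcField

open Groth.Agent.Etbc.H201.RealOdd Groth.Agent.Etbc.H201.RealClosed

/-- Real closed fields, in terms of squares. -/
structure IsRC (R : Type u) [Field R] : Prop where
  neg_one : ¬ IsSquare (-1 : R)
  sq_or : ∀ a : R, IsSquare a ∨ IsSquare (-a)
  add_sq : ∀ y : R, IsSquare (1 + y * y)
  odd : ∀ (L : Type u) [Field L] [Algebra R L] [FiniteDimensional R L], Odd (Module.finrank R L) →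
    Module.finrank R L = 1

namespace IsRC

variable {R : Type u} [Field R] (h : IsRC R)

include h

theorem isSquare_of_isSumSq {a : R} (ha : IsSumSq a) : IsSquare a := by
  induction ha with
  | zero => exact IsSquare.zero
  | @sq_add y w hw ih =>
    obtain ⟨z, rfl⟩ := ih
    by_cases hy : y = 0
    · subst hy
      exact ⟨z, by ring⟩
    · obtain ⟨t, ht⟩ := h.add_sq (z / y)
      refine ⟨y * t, ?_⟩
      have : y * t * (y * t) = y * y * (t * t) := by ring
      rw [this, ← ht]
      field_simp

theorem real : ¬ IsSumSq (-1 : R) := fun hs => h.neg_one (h.isSquare_of_isSumSq hs)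

theorem charZero : CharZero R := Groth.Agent.Etbc.H201.RealOdd.charZero h.real

theorem fact_neg_one : Fact (∀ r : R, r ^ 2 ≠ -1 + 0 * r) :=
  ⟨fun r hr => h.neg_one ⟨r, by linear_combination -hr⟩⟩

theorem isSquare_quad (z : QuadraticAlgebra R (-1 : R) 0) : IsSquare z := by
  have := h.charZero
  obtain ⟨x, y⟩ := z
  suffices hs : ∃ u v : R, x = u * u - v * v ∧ y = 2 * (u * v) by
    obtain ⟨u, v, rfl, rfl⟩ := hs
    refine ⟨⟨u, v⟩, ?_⟩
    ext
    · simp
      ring
    · simp
      ring
  by_cases hy : y = 0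
  · subst hy
    rcases h.sq_or x with ⟨w, hw⟩ | ⟨w, hw⟩
    · exact ⟨w, 0, by rw [hw]; ring, by ring⟩
    · exact ⟨0, w, by linear_combination -hw, by ring⟩
  obtain ⟨s, hs⟩ := h.isSquare_of_isSumSq ((IsSumSq.mul_self x).add (IsSumSq.mul_self y))
  rcases h.sq_or ((x + s) / 2) with ⟨w, hw⟩ | ⟨w, hw⟩
  · have hw0 : w ≠ 0 := by
      rintro rfl
      have h1 : x + s = 0 := by linear_combination 2 * hw
      have h2 : y * y = 0 := by linear_combination hs + (s - x) * h1
      exact hy (mul_self_eq_zero.1 h2)
    refine ⟨w, y / (2 * w), ?_, by field_simp⟩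
    have h3 : x + s = 2 * (w * w) := by linear_combination 2 * hw
    field_simp
    have h4 : s = 2 * (w * w) - x := by linear_combination h3
    rw [h4] at hs
    linear_combination hs
  · have hw0 : w ≠ 0 := by
      rintro rfl
      have h1 : x + s = 0 := by linear_combination -2 * hw
      have h2 : y * y = 0 := by linear_combination hs + (s - x) * h1
      exact hy (mul_self_eq_zero.1 h2)
    refine ⟨y / (2 * w), w, ?_, by field_simp⟩
    have h3 : x + s = -2 * (w * w) := by linear_combination -2 * hw
    field_simp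
    have h4 : s = -2 * (w * w) - x := by linear_combination h3
    rw [h4] at hs
    linear_combination -hs

theorem finrank_pow_two (N : Type u) [Field N] [Algebra R N] [FiniteDimensional R N]
    [IsGalois R N] : ∃ n, Module.finrank R N = 2 ^ n := by
  obtain ⟨L', ⟨n, hn⟩, h2⟩ :=
    Groth.Agent.CurvesA.GalStep.exists_sylow_field R N 2 Nat.prime_two
  have h1 : Module.finrank R L' = 1 :=
    h.odd L' (by rwa [← Nat.not_even_iff_odd, even_iff_two_dvd])
  refine ⟨n, ?_⟩
  rw [← Module.finrank_mul_finrank R L' N, h1, one_mul, ← hn, IsGalois.card_aut_eq_finrank]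

theorem finrank_quad_eq_one [Fact (∀ r : R, r ^ 2 ≠ -1 + 0 * r)] (M : Type u) [Field M]
    [Algebra (QuadraticAlgebra R (-1 : R) 0) M] [FiniteDimensional (QuadraticAlgebra R (-1 : R) 0) M] :
    Module.finrank (QuadraticAlgebra R (-1 : R) 0) M = 1 := by
  have hR0 := h.charZero
  let C := QuadraticAlgebra R (-1 : R) 0
  let _ : Algebra R M := ((algebraMap C M).comp (algebraMap R C)).toAlgebra
  have : IsScalarTower R C M := IsScalarTower.of_algebraMap_eq fun _ => rfl
  have : FiniteDimensional R M := FiniteDimensional.trans R C M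
  let N := IntermediateField.normalClosure R M (AlgebraicClosure M)
  have : Algebra.IsAlgebraic R M := inferInstance
  let _ : Algebra C N := ((algebraMap M N).comp (algebraMap C M)).toAlgebra
  have : IsScalarTower C M N := IsScalarTower.of_algebraMap_eq fun _ => rfl
  have : IsScalarTower R C N := IsScalarTower.of_algebraMap_eq fun x => by
    rw [IsScalarTower.algebraMap_apply R M N, IsScalarTower.algebraMap_apply R C M]
    rfl
  have : FiniteDimensional C N := FiniteDimensional.right R C N
  have : IsGalois R N := ⟨⟩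
  have : IsGalois C N := IsGalois.tower_top_of_isGalois R C N
  obtain ⟨n, hn⟩ := h.finrank_pow_two N
  have hC2 : Module.finrank R C = 2 := QuadraticAlgebra.finrank_eq_two (-1) 0
  have hmul : 2 * Module.finrank C N = 2 ^ n := by
    rw [← hn, ← hC2, Module.finrank_mul_finrank]
  have hN1 : Module.finrank C N = 1 := by
    rcases n with _ | _ | m
    · omega
    · omega
    · exfalso
      refine card_ne (C := C) h.isSquare_quad m N ?_
      rw [IsGalois.card_aut_eq_finrank]
      rw [pow_succ] at hmul
      omega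
  have hdvd : Module.finrank C M ∣ Module.finrank C N := ⟨_, (Module.finrank_mul_finrank C M N).symm⟩
  rw [hN1] at hdvd
  exact Nat.dvd_one.1 hdvd

theorem isSepClosed_quad [Fact (∀ r : R, r ^ 2 ≠ -1 + 0 * r)] :
    IsSepClosed (QuadraticAlgebra R (-1 : R) 0) := by
  refine IsSepClosed.of_exists_root _ fun p hp hirr _ => ?_
  have : Fact (Irreducible p) := ⟨hirr⟩
  have : FiniteDimensional (QuadraticAlgebra R (-1 : R) 0) (AdjoinRoot p) :=
    (AdjoinRoot.powerBasis hirr.ne_zero).finite
  have h1 := h.finrank_quad_eq_one (AdjoinRoot p)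
  rw [(AdjoinRoot.powerBasis hirr.ne_zero).finrank, AdjoinRoot.powerBasis_dim] at h1
  refine exists_root_of_degree_eq_one ?_
  rw [degree_eq_natDegree hirr.ne_zero, h1]
  rfl

/-- A separable closure of a real closed field has degree two. -/
theorem finrank_sepClosure (Ω : Type u) [Field Ω] [Algebra R Ω] [IsSepClosure R Ω] :
    Module.finrank R Ω = 2 := by
  have := h.charZero
  have := h.fact_neg_one
  have hs := h.isSepClosed_quad
  let C := QuadraticAlgebra R (-1 : R) 0
  have hC2 : Module.finrank R C = 2 := QuadraticAlgebra.finrank_eq_two (-1) 0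
  have : FiniteDimensional R C := FiniteDimensional.of_finrank_pos (by omega)
  have : IsSepClosure R C := ⟨hs, inferInstance⟩
  rw [← hC2]
  exact (IsSepClosure.equiv R Ω C).toLinearEquiv.finrank_eq

end IsRC

section Norm

variable {R : Type u} [Field R]

theorem algebraNorm_quad (a : R) (z : QuadraticAlgebra R a 0) :
    Algebra.norm R z = z.re * z.re - a * z.im * z.im := by
  have h1 := QuadraticAlgebra.det_toLinearMap_eq_norm z
  rw [QuadraticAlgebra.norm_def, zero_mul, zero_mul, add_zero] at h1
  rw [Algebra.norm_apply, ← h1]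
  rfl

variable (h2 : (2 : R) ≠ 0) {A : Type v} [AddCommGroup A] (φ : Additive Rˣ →+ A)
  (hN : ∀ (E : Type u) [Field E] [Algebra R E] [FiniteDimensional R E] [Algebra.IsSeparable R E],
    Module.finrank R E ≠ 1 → ∀ c : Eˣ, φ (Additive.ofMul (Units.map (Algebra.norm R : E →* R) c)) = 0)

theorem omega_sq (a : R) :
    (⟨0, 1⟩ : QuadraticAlgebra R a 0) ^ 2 = algebraMap R (QuadraticAlgebra R a 0) a := by
  rw [sq]
  ext
  · simp
  · simp

theorem adjoin_omega (a : R) [Fact (∀ r : R, r ^ 2 ≠ a + 0 * r)] :
    IntermediateField.adjoin R {(⟨0, 1⟩ : QuadraticAlgebra R a 0)} = ⊤ := by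
  rw [eq_top_iff]
  rintro ⟨x, y⟩ -
  have h1 : (⟨x, y⟩ : QuadraticAlgebra R a 0) = algebraMap R (QuadraticAlgebra R a 0) x +
      algebraMap R (QuadraticAlgebra R a 0) y * ⟨0, 1⟩ := by
    ext
    · simp
    · simp
  rw [h1]
  exact add_mem (IntermediateField.algebraMap_mem _ _)
    (mul_mem (IntermediateField.algebraMap_mem _ _) (IntermediateField.mem_adjoin_simple_self R _))

theorem omega_ne_zero (a : R) : (⟨0, 1⟩ : QuadraticAlgebra R a 0) ≠ 0 := by
  intro h
  have := congrArg QuadraticAlgebra.im h
  simp at this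

include h2 in
theorem isSeparable_quad (a : R) [Fact (∀ r : R, r ^ 2 ≠ a + 0 * r)] :
    Algebra.IsSeparable R (QuadraticAlgebra R a 0) := by
  have hE2 : Module.finrank R (QuadraticAlgebra R a 0) = 2 := QuadraticAlgebra.finrank_eq_two a 0
  have : FiniteDimensional R (QuadraticAlgebra R a 0) := FiniteDimensional.of_finrank_pos (by omega)
  -- generated by `ω` with `ω² = a`
  have ha0 : a ≠ 0 := by
    rintro rfl
    exact (Fact.out : ∀ r : R, r ^ 2 ≠ 0 + 0 * r) 0 (by ring)
  have hsep : IsSeparable R (⟨0, 1⟩ : QuadraticAlgebra R a 0) := by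
    refine (Polynomial.separable_X_pow_sub_C a (n := 2) (by exact_mod_cast h2) ha0).of_dvd (minpoly.dvd R _ ?_)
    rw [map_sub, map_pow, aeval_X, aeval_C, sub_eq_zero, omega_sq]
  have htop := adjoin_omega a
  have h3 : Algebra.IsSeparable R (IntermediateField.adjoin R {(⟨0, 1⟩ : QuadraticAlgebra R a 0)}) :=
    (IntermediateField.isSeparable_adjoin_simple_iff_isSeparable R (QuadraticAlgebra R a 0)).2 hsep
  rw [htop] at h3
  exact Algebra.IsSeparable.of_algHom R (⊤ : IntermediateField R (QuadraticAlgebra R a 0))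
    (IntermediateField.topEquiv.symm.toAlgHom)

include h2 hN in
/-- `φ` kills the norms `x² - a y²` for `a` not a square. -/
theorem hom_norm_quad {a : R} (ha : ¬ IsSquare a) (x y : R) (u : Rˣ)
    (hu : (u : R) = x * x - a * y * y) : φ (Additive.ofMul u) = 0 := by
  have : Fact (∀ r : R, r ^ 2 ≠ a + 0 * r) := ⟨fun r hr => ha ⟨r, by linear_combination -hr⟩⟩
  have hE2 : Module.finrank R (QuadraticAlgebra R a 0) = 2 := QuadraticAlgebra.finrank_eq_two a 0
  have : FiniteDimensional R (QuadraticAlgebra R a 0) := FiniteDimensional.of_finrank_pos (by omega)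
  have := isSeparable_quad h2 a
  have hz : (⟨x, y⟩ : QuadraticAlgebra R a 0) ≠ 0 := by
    intro h0
    have h1 := congrArg QuadraticAlgebra.re h0
    have h3 := congrArg QuadraticAlgebra.im h0
    simp only [QuadraticAlgebra.re_zero, QuadraticAlgebra.im_zero] at h1 h3
    apply u.ne_zero
    rw [hu, h1, h3]
    ring
  have h4 := hN (QuadraticAlgebra R a 0) (by omega) (Units.mk0 _ hz)
  rw [← h4]
  congr 2
  apply Units.ext
  rw [hu]
  exact (algebraNorm_quad a ⟨x, y⟩).symm

include h2 hN in
/-- **Real closed fields from a homomorphism killing norms.** -/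
theorem isRC_of_hom (hi : ¬ IsSquare (-1 : R)) (h1 : φ (Additive.ofMul (-1)) ≠ 0) : IsRC R := by
  have hsq : ∀ a : R, IsSquare a ∨ IsSquare (-a) := by
    intro a
    by_contra hc
    push Not at hc
    obtain ⟨ha, hna⟩ := hc
    have ha0 : a ≠ 0 := by
      rintro rfl
      exact ha IsSquare.zero
    have e1 : φ (Additive.ofMul (-(Units.mk0 a ha0))) = 0 :=
      hom_norm_quad h2 φ hN ha 0 1 _ (by rw [Units.val_neg, Units.val_mk0]; ring)
    have e2 : φ (Additive.ofMul (Units.mk0 a ha0)) = 0 :=
      hom_norm_quad h2 φ hN hna 0 1 _ (by rw [Units.val_mk0]; ring)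
    apply h1
    have e3 : φ (Additive.ofMul (-(Units.mk0 a ha0))) = φ (Additive.ofMul (-1)) +
        φ (Additive.ofMul (Units.mk0 a ha0)) := by
      rw [← map_add, ← ofMul_mul, neg_one_mul]
    rw [e1, e2, add_zero] at e3
    exact e3.symm
  have hadd : ∀ y : R, IsSquare (1 + y * y) := by
    intro y
    by_contra hc
    exact h1 (hom_norm_quad h2 φ hN hc y 1 _ (by rw [Units.val_neg, Units.val_one]; ring))
  have hreal : ¬ IsSumSq (-1 : R) := by
    intro hs
    refine hi ?_
    have key : ∀ w : R, IsSumSq w → IsSquare w := by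
      intro w hw
      induction hw with
      | zero => exact IsSquare.zero
      | @sq_add y w hw ih =>
        obtain ⟨z, rfl⟩ := ih
        by_cases hy : y = 0
        · subst hy
          exact ⟨z, by ring⟩
        · obtain ⟨t, ht⟩ := hadd (z / y)
          refine ⟨y * t, ?_⟩
          have : y * t * (y * t) = y * y * (t * t) := by ring
          rw [this, ← ht]
          field_simp
    exact key _ hs
  have hc0 : CharZero R := Groth.Agent.Etbc.H201.RealOdd.charZero hreal
  refine ⟨hi, hsq, hadd, fun L _ _ _ hodd => ?_⟩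
  by_contra hne
  apply h1
  rw [← hN L hne (-1)]
  congr 2
  apply Units.ext
  change (-1 : R) = Algebra.norm R (-1 : L)
  have h3 : (-1 : L) = algebraMap R L (-1) := by rw [map_neg, map_one]
  rw [h3, Algebra.norm_algebraMap, hodd.neg_one_pow]

end Norm

end Groth.Agent.Dix.K406.RcField
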