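import Groth.Agent.Dix.K406.Psi
import Groth.Agent.Dix.K406.RcField
import Groth.Agent.MilnorK.K767.Gal
import Groth.Agent.S0108

/-!
# A class dying in all proper finite separable extensions forces the field to be real closed
-/

set_option autoImplicit false
universe u

open CategoryTheory CategoryTheory.Limits AlgebraicGeometry Opposite CategoryTheory.Abelian
open scoped Groth.Agent.Etcore.EtInst

namespace Groth.Agent.Dix.K406.Core

open Groth.Agent.Etcore.EtInst Groth.Agent.Etcore.HpullCalc Groth.Agent.Etcore.HpVia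
open Groth.Agent.CurvesA Groth.Agent.CurvesA.EtFieldObj Groth.Agent.CurvesA.EtFieldDesc
open Groth.Agent.CurvesA.EtFieldTr Groth.Agent.CurvesA.AcycEtale Groth.Agent.Sga4h.EtaleRes
open Groth.Agent.Dix.K406.RcField Groth.Agent.Dix.K406.Psi

/-- The morphism attached to a field extension. -/
noncomputable abbrev sm (F E : Type u) [Field F] [Field E] [Algebra F E] :
    Spec (CommRingCat.of E) ⟶ Spec (CommRingCat.of F) :=
  Spec.map (CommRingCat.ofHom (algebraMap F E))

section

variable {X Y : Scheme.{u}} (f : X ⟶ Y) [PreservesFiniteLimits (EtCoh.pull f)]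

theorem map_eq_zero_of_hp {G : EtCoh.Ab Y} {n : ℕ} (x : HH Y G n) (hx : hp f G n x = 0) :
    (x.mapExactFunctor (EtCoh.pull f) : Ext.{u + 1} _ _ n) = 0 := by
  have h1 : (Ext.mk₀ (EtCore.pullConst f ℤ).hom).comp (hp f G n x) (zero_add n) =
      x.mapExactFunctor (EtCoh.pull f) := by
    rw [hp_apply, Ext.mk₀_comp_mk₀_assoc, Iso.hom_inv_id, Ext.mk₀_id_comp]
  rw [← h1, hx, Ext.comp_zero]

end

section

variable (F : Type u) [Field F] (E : Type u) [Field E] [Algebra F E] [FiniteDimensional F E]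
  [Algebra.IsSeparable F E]

theorem ext_ZL_eq_zero {G : EtCoh.Ab (Spec (CommRingCat.of F))} {n : ℕ}
    (h : Subsingleton (HH (Spec (CommRingCat.of E)) ((EtCoh.pull (sm F E)).obj G) n))
    (z : Ext.{u + 1} (ZL F E) G n) : z = 0 := by
  have : Etale (sm F E) := etale_SpecMap F E
  have h1 : Subsingleton (HH (Spec (CommRingCat.of E)) ((EtShriek.restrAlong (sm F E)).obj G) n) :=
    (HHmap_bijective ((pullIsoRestr (sm F E)).hom.app G) n).2.subsingleton
  have e := extEquivH (etObj F E) G n
  have h2 : Subsingleton (EtCoh.H (etObj F E).left ((EtShriek.restrAlong (etObj F E).hom).obj G) n) := h1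
  have h3 : Subsingleton (Ext.{u + 1} ((Groth.Agent.CurvesA.PushAcyclic.Z _).obj (etObj F E)) G n) :=
    e.toEquiv.subsingleton
  exact h3.elim _ _

end

/-- **A class dying in all proper finite separable extensions**, on a field `L` such that `H^n(L(√-1)) = 0` and
`H^{n+1}(L(√-1)) = 0`: the field `L` is real closed. -/
theorem isRC_of_class (L : Type u) [Field L] (h2 : (2 : L) ≠ 0) (G : EtCoh.Ab (Spec (CommRingCat.of L)))
    (n : ℕ) (x : HH (Spec (CommRingCat.of L)) G n) (hx0 : x ≠ 0)
    (hpl : ∀ (E : Type u) [Field E] [Algebra L E], PreservesFiniteLimits (EtCoh.pull (sm L E)))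
    (hfin : ∀ (E : Type u) [Field E] [Algebra L E] [FiniteDimensional L E] [Algebra.IsSeparable L E],
      Module.finrank L E ≠ 1 → hp (sm L E) G n x = 0)
    (hcd : ∀ (E : Type u) [Field E] [Algebra L E] [FiniteDimensional L E], IsSquare (-1 : E) →
      Subsingleton (HH (Spec (CommRingCat.of E)) ((EtCoh.pull (sm L E)).obj G) n) ∧
        Subsingleton (HH (Spec (CommRingCat.of E)) ((EtCoh.pull (sm L E)).obj G) (n + 1))) :
    IsRC L := by
  have hi : ¬ IsSquare (-1 : L) := by
    intro hi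
    apply hx0
    have h1 := (hcd L hi).1
    have hiso : IsIso (sm L L) := by
      have : sm L L = 𝟙 _ := Spec.map_id _
      rw [this]
      infer_instance
    apply (hp_bijective_of_isIso (sm L L) G n).1
    exact h1.elim _ _
  obtain ⟨r, wB, hB, hr⟩ := exists_red L h2
  have hm : Epi (EtCoh.powMap (Spec (CommRingCat.of L)) 2) := by
    refine Groth.Agent.S0108.result _ 2 ?_
    have h3 : IsUnit ((2 : ℕ) : L) := by
      rw [Nat.cast_ofNat]
      exact isUnit_iff_ne_zero.2 h2
    have h4 := h3.map (Scheme.ΓSpecIso (CommRingCat.of L)).inv.hom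
    rwa [map_natCast] at h4
  let φ : Additive Lˣ →+ Ext.{u + 1} (EtCoh.const (Spec (CommRingCat.of L)) ℤ) G (2 + n) :=
    AddMonoidHom.mk' (fun a => (psi hB hm a.toMul).comp x rfl) fun a b => by
      change (psi hB hm (a.toMul * b.toMul)).comp x rfl = _
      rw [psi_mul, Ext.add_comp]
  have hφ : ∀ a : Lˣ, φ (Additive.ofMul a) = (psi hB hm a).comp x rfl := fun _ => rfl
  refine isRC_of_hom h2 φ ?_ hi ?_
  · intro E _ _ _ _ hE c
    rw [hφ]
    exact psi_norm_comp hB hm E c rfl x (map_eq_zero_of_hp (sm L E) x (hfin E hE))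
  · intro h0
    rw [hφ] at h0
    apply hx0
    have hfact : Fact (∀ r : L, r ^ 2 ≠ -1 + 0 * r) := ⟨fun r hr => hi ⟨r, by linear_combination -hr⟩⟩
    have hE2 : Module.finrank L (QuadraticAlgebra L (-1 : L) 0) = 2 := QuadraticAlgebra.finrank_eq_two (-1) 0
    have hne : (-1 : L) ≠ 1 := by
      intro h
      apply h2
      have : (1 : L) + 1 = 0 := by
        nth_rewrite 1 [← h]
        exact neg_add_cancel 1
      rw [← one_add_one_eq_two, this]
    have hω : IsPrimitiveRoot (-1 : L) 2 := by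
      refine IsPrimitiveRoot.mk_of_lt _ two_pos (by norm_num) fun l hl hl2 => ?_
      obtain rfl : l = 1 := by omega
      rw [pow_one]
      exact hne
    obtain ⟨hfd, hgal, σ, hσα, hσ, hord⟩ := K767.Gal.exists_gal L 2 (by exact_mod_cast h2) (-1) hω (-1)
      (QuadraticAlgebra L (-1 : L) 0) ⟨0, 1⟩ (omega_sq (-1)) (adjoin_omega (-1)) hE2
    have hsq : IsSquare (-1 : QuadraticAlgebra L (-1 : L) 0) :=
      ⟨⟨0, 1⟩, by rw [← sq, omega_sq, map_neg, map_one]⟩
    obtain ⟨hv, hv'⟩ := hcd (QuadraticAlgebra L (-1 : L) 0) hsq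
    refine eq_zero_of_psi_comp hB hr hm (QuadraticAlgebra L (-1 : L) 0) σ hσ hord (-1)
      (Units.mk0 _ (omega_ne_zero (-1))) ?_ ?_ rfl
      (ext_ZL_eq_zero L _ hv) (ext_ZL_eq_zero L _ hv') x h0
    · apply Units.ext
      exact omega_sq (-1)
    · change σ (⟨0, 1⟩ : QuadraticAlgebra L (-1 : L) 0) = -⟨0, 1⟩
      rw [hσα, map_neg, map_one, neg_one_mul]

end Groth.Agent.Dix.K406.Core
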