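import Groth.Agent.MilnorK.K767.PullEt2
import Groth.Agent.Etcore.HpVia

/-!
# Composition with a class which vanishes on an étale `V ⟶ X`

* `comp_eq_zero_of_pull`: if `x ∈ Ext^n(A, B)` pulls back to zero on `V`, then `y · x = 0` for all `y ∈ Ext^p(ℤ[V], A)`.
-/

set_option autoImplicit false
universe u

open CategoryTheory CategoryTheory.Limits AlgebraicGeometry Opposite CategoryTheory.Abelian
open scoped Groth.Agent.Etcore.EtInst

namespace Groth.Agent.Dix.K406.ExtRes

open Groth.Agent.CurvesA.SiteZU Groth.Agent.CurvesA.PushAcyclic Groth.Agent.CurvesA.AcycEtale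
  Groth.Agent.Sga4h.EtaleRes Groth.Agent.CurvesA

section

universe w v v' u'

variable {C : Type u} [Category.{v} C] [Abelian C] {D : Type u'} [Category.{v'} D] [Abelian D]
  [HasExt.{w} C] [HasExt.{w} D] [EnoughInjectives C] [EnoughInjectives D]

/-- Isomorphic exact functors kill the same classes. -/
theorem map_eq_zero {P R : C ⥤ D} [P.Additive] [R.Additive] [PreservesFiniteLimits P]
    [PreservesFiniteColimits P] [PreservesFiniteLimits R] [PreservesFiniteColimits R] (θ : P ≅ R)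
    {A B : C} {n : ℕ} (x : Ext.{w} A B n) (h : (x.mapExactFunctor P : Ext.{w} _ _ n) = 0) :
    (x.mapExactFunctor R : Ext.{w} _ _ n) = 0 := by
  have h1 := Groth.Agent.Etcore.ExtAdj.mapExactFunctor_nat.{w, w} θ.hom x
  rw [h, Ext.zero_comp] at h1
  have h2 : (Ext.mk₀ (θ.inv.app A)).comp ((Ext.mk₀ (θ.hom.app A)).comp
      (x.mapExactFunctor R : Ext.{w} _ _ n) (zero_add n)) (zero_add n) = x.mapExactFunctor R := by
    rw [Ext.mk₀_comp_mk₀_assoc, Iso.inv_hom_id_app, Ext.mk₀_id_comp]
  rw [← h2, ← h1, Ext.comp_zero]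

theorem comp_eq_zero_of_adj {L : C ⥤ D} {R : D ⥤ C} [L.Additive] [R.Additive]
    [PreservesFiniteLimits L] [PreservesFiniteColimits L] [PreservesFiniteLimits R]
    [PreservesFiniteColimits R] (adj : L ⊣ R) {A : C} {B B' : D} {p n m : ℕ} (h : p + n = m)
    (y : Ext.{w} (L.obj A) B p) (x : Ext.{w} B B' n) (hx : (x.mapExactFunctor R : Ext.{w} _ _ n) = 0) :
    y.comp x h = 0 := by
  apply (Groth.Agent.Etcore.ExtAdj.extAdj.{w, w} adj A B' m).injective
  rw [map_zero, Groth.Agent.Etcore.ExtAdj.extAdj_apply, Ext.mapExactFunctor_comp, hx, Ext.comp_zero,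
    Ext.comp_zero]

end

variable {X : Scheme.{u}} (V : X.Etale)

/-- A class which pulls back to zero on `V`, multiplied by a class on `ℤ[V]`, vanishes. -/
theorem comp_eq_zero_of_pull [EtShriek.JCont V.hom] [EtCoh.BCCont V.hom]
    [PreservesFiniteLimits (EtCoh.pull V.hom)] {A B : EtCoh.Ab X} {p n m : ℕ} (h : p + n = m)
    (y : Ext.{u + 1} ((Z X).obj V) A p) (x : Ext.{u + 1} A B n)
    (hx : (x.mapExactFunctor (EtCoh.pull V.hom) : Ext.{u + 1} _ _ n) = 0) : y.comp x h = 0 := by
  have i1 := Groth.Agent.S0648.result V.hom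
  have i2 : (EtShriek.extZero V.hom).Additive := (EtShriek.extZeroAdj V.hom).left_adjoint_additive
  have i3 : PreservesColimitsOfSize.{0, 0} (EtShriek.extZero V.hom) :=
    (EtShriek.extZeroAdj V.hom).leftAdjoint_preservesColimits
  have i4 : PreservesFiniteColimits (EtShriek.extZero V.hom) :=
    PreservesColimitsOfSize.preservesFiniteColimits.{0, 0} _
  have i5 := Groth.Agent.Sga4h.EtaleRes2.preservesFiniteLimits_restrAlong V.hom
  have i6 := Groth.Agent.Sga4h.EtaleRes2.preservesFiniteColimits_restrAlong V.hom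
  have h1 : (x.mapExactFunctor (EtShriek.restrAlong V.hom) : Ext.{u + 1} _ _ n) = 0 :=
    map_eq_zero (pullIsoRestr V.hom) x hx
  let e := (extZeroZ V.hom (EtCoh.top V.left)).trans ((Z X).mapIso (compTopIso V))
  have h2 : ((Ext.mk₀ e.hom).comp y (zero_add p)).comp x h = 0 :=
    comp_eq_zero_of_adj (EtShriek.extZeroAdj V.hom) h _ x h1
  have h3 : (Ext.mk₀ e.inv).comp (((Ext.mk₀ e.hom).comp y (zero_add p)).comp x h) (zero_add m) =
      y.comp x h := by
    rw [← Ext.comp_assoc _ _ _ (zero_add p) h (by omega), Ext.mk₀_comp_mk₀_assoc, e.inv_hom_id,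
      Ext.mk₀_id_comp]
  rw [← h3, h2, Ext.comp_zero]

end Groth.Agent.Dix.K406.ExtRes
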