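import Groth.Agent.Dix.K406.Core
import Groth.Agent.MilnorK.K889.FgClass

/-!
# Classes which die in all real closed algebraic extensions

* `exists_zero_stage` : a class dying in a directed union of subfields dies in one of them;
* `exists_maximal` : maximal subfields on which a class does not die;
* `eq_zero_of_real` : if `H^n` and `H^{n+1}` vanish over the algebraic extensions containing `√-1`, a class of
  degree `n` which dies in all real closed algebraic extensions is zero.
-/

set_option autoImplicit false
universe u

open CategoryTheory CategoryTheory.Limits AlgebraicGeometry Opposite CategoryTheory.Abelian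
open scoped Groth.Agent.Etcore.EtInst

namespace Groth.Agent.Dix.K406.Zorn

open Groth.Agent.Etcore Groth.Agent.Etcore.EtInst Groth.Agent.Etcore.HpullCalc Groth.Agent.Etcore.HpVia
open Groth.Agent.Etcore.PullCoh Groth.Agent.Etcore.PullbackLim
open Groth.Agent.Dix.K406.RcField Groth.Agent.Dix.K406.Core K889.FgClass

attribute [local instance] Groth.Agent.S0101.result

section

variable (F A B : Type u) [Field F] [Field A] [Field B] [Algebra F A] [Algebra F B]

theorem sm_algHom (φ : A →ₐ[F] B) :
    Spec.map (CommRingCat.ofHom φ.toRingHom) ≫ sm F A = sm F B := by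
  rw [← Spec.map_comp, ← CommRingCat.ofHom_comp]
  congr 2
  exact φ.comp_algebraMap

theorem hp_eq_zero_of_algHom (φ : A →ₐ[F] B) (G : EtCoh.Ab (Spec (CommRingCat.of F))) (n : ℕ)
    (x : HH (Spec (CommRingCat.of F)) G n) (h : hp (sm F A) G n x = 0) : hp (sm F B) G n x = 0 := by
  rw [← hpVia_hp (Spec.map (CommRingCat.ofHom φ.toRingHom)) (sm F A) (sm F B) (sm_algHom F A B φ) G n x,
    h, map_zero]

theorem eq_zero_of_hp_self (G : EtCoh.Ab (Spec (CommRingCat.of F))) (n : ℕ)
    (x : HH (Spec (CommRingCat.of F)) G n) (h : hp (sm F F) G n x = 0) : x = 0 := by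
  have hiso : IsIso (sm F F) := by
    have : sm F F = 𝟙 _ := Spec.map_id _
    rw [this]
    infer_instance
  apply (hp_bijective_of_isIso (sm F F) G n).1
  rw [h, map_zero]

end

/-- A class dying in a directed union of subfields dies in one of them. -/
theorem exists_zero_stage {F K : Type u} [Field F] [Field K] [Algebra F K] {ι : Type u} [Preorder ι]
    [IsDirected ι (· ≤ ·)] [Nonempty ι] (A : ι → IntermediateField F K) (hA : Monotone A)
    (hc : ∀ x : K, ∃ i, x ∈ A i) (G : EtCoh.Ab (Spec (CommRingCat.of F))) (n : ℕ)
    (x : HH (Spec (CommRingCat.of F)) G n) (h : hp (sm F K) G n x = 0) :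
    ∃ i, hp (sm F (A i)) G n x = 0 := by
  let j : ι := Classical.arbitrary ι
  obtain ⟨l, hl, hz⟩ := LimH.exists_zero_of_limit (specSys (sys A hA))
    (fun _ _ h => isAffineHom_specSys _ h)
    (fun a => by have := isAffine_specSys (sys A hA) a; infer_instance)
    (fun a => by have := isAffine_specSys (sys A hA) a; infer_instance)
    (Spec (CommRingCat.of K)) (stg A hA) (stg_map A hA)
    (nonempty_isLimit A hA hc).some (rr A hA) (map_rr A hA)
    (Spec.map (CommRingCat.ofHom (algebraMap F K))) (stg_rr A hA) G n j (hp (rr A hA (op j)) G n x)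
    (by rw [hpVia_hp]; exact h)
  rw [hpVia_hp] at hz
  exact ⟨l, hz⟩

/-- Maximal subfields on which a class does not die. -/
theorem exists_maximal (k Ω : Type u) [Field k] [Field Ω] [Algebra k Ω]
    (G : EtCoh.Ab (Spec (CommRingCat.of k))) (n : ℕ) (x : HH (Spec (CommRingCat.of k)) G n) (hx : x ≠ 0) :
    ∃ L : IntermediateField k Ω, Maximal (fun L : IntermediateField k Ω => hp (sm k L) G n x ≠ 0) L := by
  obtain ⟨L, -, hL⟩ := zorn_le_nonempty₀ {L : IntermediateField k Ω | hp (sm k L) G n x ≠ 0} (by
    intro c hc hchain y hy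
    refine ⟨sSup c, ?_, fun z hz => le_sSup hz⟩
    intro hs
    have : Nonempty c := ⟨⟨y, hy⟩⟩
    have hdir : Directed (· ≤ ·) (fun E : c => (E : IntermediateField k Ω)) :=
      hchain.directedOn.directed_val
    have hdir' : IsDirected c (· ≤ ·) := ⟨fun a b => by
      obtain ⟨d, h1, h2⟩ := hdir a b
      exact ⟨d, h1, h2⟩⟩
    let A : c → IntermediateField k (sSup c : IntermediateField k Ω) :=
      fun E => (E : IntermediateField k Ω).comap (sSup c : IntermediateField k Ω).val
    have hA : Monotone A := fun E E' h z hz => h hz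
    have hcov : ∀ z : (sSup c : IntermediateField k Ω), ∃ i, z ∈ A i := by
      intro z
      have h1 : (z : Ω) ∈ ((⨆ E : c, (E : IntermediateField k Ω) : IntermediateField k Ω) : Set Ω) := by
        rw [← sSup_eq_iSup']
        exact z.2
      rw [IntermediateField.coe_iSup_of_directed hdir, Set.mem_iUnion] at h1
      exact h1
    obtain ⟨E, hE⟩ := exists_zero_stage A hA hcov G n x hs
    refine hc E.2 ?_
    refine hp_eq_zero_of_algHom k (A E) (E : IntermediateField k Ω)
      { toFun := fun z => ⟨z.1.1, z.2⟩
        map_one' := rfl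
        map_mul' := fun _ _ => rfl
        map_zero' := rfl
        map_add' := fun _ _ => rfl
        commutes' := fun _ => rfl } G n x hE) ⊥ (by
      intro hs
      apply hx
      apply eq_zero_of_hp_self
      exact hp_eq_zero_of_algHom k _ k (IntermediateField.botEquiv k Ω).toAlgHom G n x hs)
  exact ⟨L, hL⟩

/-- **Classes which die in all real closed algebraic extensions.** -/
theorem eq_zero_of_real (k : Type u) [Field k] (h2 : (2 : k) ≠ 0)
    (G : EtCoh.Ab (Spec (CommRingCat.of k))) (n : ℕ)
    (hcd : ∀ (E : Type u) [Field E] [Algebra k E] [Algebra.IsAlgebraic k E], IsSquare (-1 : E) →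
      ∀ q : ℕ, n ≤ q → q ≤ n + 1 →
        Subsingleton (HH (Spec (CommRingCat.of E)) ((EtCoh.pull (sm k E)).obj G) q))
    (x : HH (Spec (CommRingCat.of k)) G n)
    (hx : ∀ (L : Type u) [Field L] [Algebra k L] [Algebra.IsAlgebraic k L], IsRC L →
      hp (sm k L) G n x = 0) : x = 0 := by
  by_contra hx0
  let Ω := AlgebraicClosure k
  obtain ⟨L, hL, hmax⟩ := exists_maximal k Ω G n x hx0
  apply hL
  apply hx L
  have h2L : (2 : L) ≠ 0 := by
    rw [← map_ofNat (algebraMap k L) 2]
    exact (_root_.map_ne_zero _).2 h2
  have htow : ∀ (E : Type u) [Field E] [Algebra L E] [Algebra k E] [IsScalarTower k L E],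
      sm L E ≫ sm k L = sm k E := by
    intro E _ _ _ _
    rw [← Spec.map_comp, ← CommRingCat.ofHom_comp, ← IsScalarTower.algebraMap_eq]
  refine isRC_of_class L h2L ((EtCoh.pull (sm k L)).obj G) n (hp (sm k L) G n x) hL
    (fun E _ _ => inferInstance) ?_ ?_
  · intro E _ _ _ _ hE
    let _ : Algebra k E := ((algebraMap L E).comp (algebraMap k L)).toAlgebra
    have : IsScalarTower k L E := IsScalarTower.of_algebraMap_eq fun _ => rfl
    let φ : E →ₐ[L] Ω := IsAlgClosed.lift
    let L' : IntermediateField k Ω := φ.fieldRange.restrictScalars k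
    have hle : L ≤ L' := by
      intro z hz
      exact ⟨algebraMap L E ⟨z, hz⟩, φ.commutes _⟩
    have hz' : hp (sm k L') G n x = 0 := by
      by_contra hne
      have hge : L' ≤ L := hmax hne hle
      apply hE
      have hbij : Function.Bijective (algebraMap L E) := by
        refine ⟨(algebraMap L E).injective, fun y => ?_⟩
        have h1 : φ y ∈ L := hge ⟨y, rfl⟩
        refine ⟨⟨φ y, h1⟩, φ.injective ?_⟩
        exact φ.commutes _
      exact (LinearEquiv.ofBijective (Algebra.linearMap L E) hbij).finrank_eq.symm.trans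
        (Module.finrank_self L)
    have hz : hp (sm k E) G n x = 0 := by
      let e : E ≃ₐ[L] φ.fieldRange := AlgEquiv.ofInjectiveField φ
      refine hp_eq_zero_of_algHom k L' E
        { toFun := fun z => e.symm z
          map_one' := map_one e.symm
          map_mul' := fun a b => map_mul e.symm a b
          map_zero' := map_zero e.symm
          map_add' := fun a b => map_add e.symm a b
          commutes' := fun a => by
            exact e.symm.commutes (algebraMap k L a) } G n x hz'
    apply (HHmap_bijective (th (sm L E) (sm k L) (sm k E) (htow E) G) n).1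
    rw [map_zero, ← hpVia_eq, hpVia_hp, hz]
  · intro E _ _ _ hE
    let _ : Algebra k E := ((algebraMap L E).comp (algebraMap k L)).toAlgebra
    have : IsScalarTower k L E := IsScalarTower.of_algebraMap_eq fun _ => rfl
    have : Algebra.IsAlgebraic k E := Algebra.IsAlgebraic.trans k L E
    have key : ∀ q : ℕ, n ≤ q → q ≤ n + 1 → Subsingleton (HH (Spec (CommRingCat.of E))
        ((EtCoh.pull (sm L E)).obj ((EtCoh.pull (sm k L)).obj G)) q) := by
      intro q h1 h3
      have h4 := hcd E hE q h1 h3
      exact (HHmap_bijective (th (sm L E) (sm k L) (sm k E) (htow E) G) q).1.subsingleton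
    exact ⟨key n le_rfl (by omega), key (n + 1) (by omega) le_rfl⟩

end Groth.Agent.Dix.K406.Zorn
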