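import Groth.Agent.Dix.K109.Scd
import Groth.Agent.Etbc.H226.NfCd
import Groth.Agent.Dix.K406.Zorn

/-!
# `H³` of a lattice over a number field: classes which die at the real closures are zero

* `cycCd` : algebraic extensions of a number field containing all `p`-power roots of unity have `cd_p ≤ 1`;
* `subsingleton_of_sq` : `H^q(E, F) = 0` for `q = 3, 4`, `F` a lattice on a number field `k`, `E/k` algebraic with
  `√-1 ∈ E`;
* `eq_zero_of_real` : a class in `H³(k, F)` which dies in all real closed algebraic extensions is zero.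
-/

set_option autoImplicit false
universe u

open CategoryTheory CategoryTheory.Limits AlgebraicGeometry Opposite CategoryTheory.Abelian
open scoped Groth.Agent.Etcore.EtInst

namespace Groth.Agent.Dix.K406.NfReal

open Groth.Agent.Etcore.EtInst Groth.Agent.Etcore.HpullCalc Groth.Agent.Etcore.HpVia
open Groth.Agent.CurvesA Groth.Agent.CurvesA.EtFieldObj Groth.Agent.CurvesA.EtFieldDesc
open Groth.Agent.CurvesA.EtFieldTr Groth.Agent.CurvesA.EtFieldFin Groth.Agent.CurvesA.EtFieldTors
open Groth.Agent.CurvesA.AcycEtale Groth.Agent.Sga4h.EtaleRes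
open Groth.Agent.Dix.K406.RcField Groth.Agent.Dix.K406.Core Groth.Agent.Dix.K109 Groth.Agent.Etbc
open K889.FgClass

attribute [local instance] Groth.Agent.S0101.result

/-- The number field case of `CycCd`. -/
theorem cycCd (K : Type u) [Field K] [CharZero K] [Algebra.IsAlgebraic ℚ K] (ℓ : ℕ) [Fact ℓ.Prime] :
    Scd.CycCd K ℓ := by
  intro L _ _ _ h
  have : CharZero L := charZero_of_injective_algebraMap (algebraMap K L).injective
  have : Algebra.IsAlgebraic ℚ L := Algebra.IsAlgebraic.trans ℚ K L
  refine H226.NfCd.nf4 L ℓ (by simpa using h 1) ?_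
  intro E M _ _ _ _ _ _ _ hdeg
  have : CharZero E := charZero_of_injective_algebraMap (algebraMap L E).injective
  have : Algebra.IsAlgebraic ℚ E := Algebra.IsAlgebraic.trans ℚ L E
  have hr : ∀ n, ∃ ζ : E, IsPrimitiveRoot ζ (ℓ ^ n) := by
    intro n
    obtain ⟨ζ, hζ⟩ := h n
    exact ⟨algebraMap L E ζ, hζ.map_of_injective (algebraMap L E).injective⟩
  exact H236.NormSurj.norm_surjective E M ℓ (by simpa using hr 1) hdeg fun b =>
    H224.NfEFinal.E ℓ E hr b

theorem not_orderable {E : Type u} [Field E] (h : IsSquare (-1 : E)) :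
    ¬ ∃ _ : LinearOrder E, IsStrictOrderedRing E := by
  rintro ⟨_, _⟩
  obtain ⟨r, hr⟩ := h
  have h1 : (0 : E) ≤ r * r := mul_self_nonneg r
  rw [← hr] at h1
  exact absurd h1 (by norm_num)

section Four

variable (K : Type u) [Field K] {F : EtCoh.Ab (Spec (CommRingCat.of K))}
  (htf : ∀ (n : ℕ) (U : (Spec (CommRingCat.of K)).Etale) (s : EtCoh.sect F U),
    n ≠ 0 → n • s = 0 → s = 0)

include htf in
/-- `H⁴(K, F) = 0` for torsion free `F` if `cd(K) ≤ 2`. -/
theorem ext_four_eq_zero (hK : ∀ p : ℕ, p.Prime → Dix.CohDimLEAt (Spec (CommRingCat.of K)) p 2)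
    (y : Ext (ZL K K) F 4) : y = 0 := by
  have key : ∀ p : ℕ, p.Prime → ∀ z : Ext (ZL K K) F 4, p • z = 0 → z = 0 := by
    intro p hp z hz
    exact Scd.noTors_of_coker p 3 (Scd.mono_nsmul htf p hp.ne_zero)
      (Scd.van_coker K p 3 2 (by norm_num) (hK p hp)) z hz
  obtain ⟨n, hn, hny⟩ := K773.EtExp.exists_nsmul_ext F 3 K y
  induction n using Nat.recOnMul generalizing y with
  | zero => omega
  | one => rwa [one_smul] at hny
  | prime p hp => exact key p hp y hny
  | mul a b iha ihb =>
    have ha : 0 < a := Nat.pos_of_ne_zero (by rintro rfl; simp at hn)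
    have hb : 0 < b := Nat.pos_of_ne_zero (by rintro rfl; simp at hn)
    apply ihb y hb
    exact iha (b • y) ha (by rw [smul_smul, hny])

end Four

section Restr

variable {k : Type u} [Field k] {F : EtCoh.Ab (Spec (CommRingCat.of k))}
  (E : Type u) [Field E] [Algebra k E] [FiniteDimensional k E] [Algebra.IsSeparable k E]

/-- Lattices restrict to lattices. -/
theorem fin'_R (hF : Fin' F) : Fin' (R E F) := by
  obtain ⟨N, _, _, _, _, hN, hNfin⟩ := hF
  obtain ⟨M, _, _, _, _, ⟨φ⟩, ⟨ψ⟩⟩ := exists_galois (K := k) N E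
  let _ : Algebra E M := ψ.toRingHom.toAlgebra
  have : IsScalarTower k E M := IsScalarTower.of_algebraMap_eq fun x => (ψ.commutes x).symm
  have : FiniteDimensional E M := FiniteDimensional.right k E M
  have : IsGalois E M := IsGalois.tower_top_of_isGalois k E M
  have hM : Split M F := Split.mono (etMap φ) hN
  have h1 : Split M (R E F) := split_R hM
  have h2 : Module.Finite ℤ (F.obj.obj (op (etObj k M))) :=
    Module.Finite.of_surjective ((F.obj.map (etMap φ).op).hom.toIntLinearMap) (hN M (etMap φ))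
  refine ⟨M, inferInstance, inferInstance, inferInstance, inferInstance, h1, ?_⟩
  exact Module.Finite.of_surjective
    ((F.obj.map (compIso (K := k) (L := E) M).hom.op).hom.toIntLinearMap)
    (bijective_iso F (compIso (K := k) (L := E) M)).2

theorem torsionFree_R (htf : ∀ (n : ℕ) (U : (Spec (CommRingCat.of k)).Etale) (s : EtCoh.sect F U),
    n ≠ 0 → n • s = 0 → s = 0) (n : ℕ) (U : (Spec (CommRingCat.of E)).Etale)
    (s : EtCoh.sect (R E F) U) (hn : n ≠ 0) (hs : n • s = 0) : s = 0 :=
  htf n ((EtShriek.compEtale (etObj k E).hom).obj U) s hn hs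

theorem subsingleton_pull (q : ℕ) (h : Subsingleton (HH (Spec (CommRingCat.of E)) (R E F) q)) :
    Subsingleton (HH (Spec (CommRingCat.of E)) ((EtCoh.pull (sm k E)).obj F) q) := by
  have : Etale (sm k E) := etale_SpecMap k E
  have h' : Subsingleton (HH (Spec (CommRingCat.of E)) ((EtShriek.restrAlong (sm k E)).obj F) q) := h
  exact (HHmap_bijective ((pullIsoRestr (sm k E)).hom.app F) q).1.subsingleton

end Restr

variable {k : Type u} [Field k] [NumberField k] {F : EtCoh.Ab (Spec (CommRingCat.of k))}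
  (hF : Fin' F) (htf : ∀ (n : ℕ) (U : (Spec (CommRingCat.of k)).Etale) (s : EtCoh.sect F U),
    n ≠ 0 → n • s = 0 → s = 0)

include hF htf in
theorem subsingleton_of_finite (E : Type u) [Field E] [Algebra k E] [FiniteDimensional k E]
    (hi : IsSquare (-1 : E)) (q : ℕ) (h3 : 3 ≤ q) (h4 : q ≤ 4) :
    Subsingleton (HH (Spec (CommRingCat.of E)) ((EtCoh.pull (sm k E)).obj F) q) := by
  have hE0 : CharZero E := charZero_of_injective_algebraMap (algebraMap k E).injective
  have : FiniteDimensional ℚ E := FiniteDimensional.trans ℚ k E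
  have : Algebra.IsAlgebraic ℚ E := Algebra.IsAlgebraic.of_finite ℚ E
  have hcd : ∀ p : ℕ, p.Prime → Dix.CohDimLEAt (Spec (CommRingCat.of E)) p 2 := by
    intro p hp
    have : Fact p.Prime := ⟨hp⟩
    exact H226.NfCd.cd_numberField E p (Or.inr (not_orderable hi))
  apply subsingleton_pull
  have hcases : q = 3 ∨ q = 4 := by omega
  rcases hcases with rfl | rfl
  · refine Scd.subsingleton_H3 E (fin'_R E hF) (torsionFree_R E htf) fun p hp => ?_
    have : Fact p.Prime := ⟨hp⟩
    exact Or.inr ⟨by exact_mod_cast hp.ne_zero, hcd p hp, cycCd E p⟩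
  · exact EtFieldH.subsingleton_H (R E F) 4 (ext_four_eq_zero E (torsionFree_R E htf) hcd)

include hF htf in
theorem subsingleton_of_sq (E : Type u) [Field E] [Algebra k E] [Algebra.IsAlgebraic k E]
    (hi : IsSquare (-1 : E)) (q : ℕ) (h3 : 3 ≤ q) (h4 : q ≤ 4) :
    Subsingleton (HH (Spec (CommRingCat.of E)) ((EtCoh.pull (sm k E)).obj F) q) := by
  classical
  obtain ⟨i, hi⟩ := hi
  let A : Finset E → IntermediateField k E := fun s => IntermediateField.adjoin k ((insert i s : Finset E) : Set E)
  have hA : Monotone A := fun s t h =>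
    IntermediateField.adjoin.mono k _ _ (Finset.coe_subset.2 (Finset.insert_subset_insert i h))
  have hc : ∀ x : E, ∃ s, x ∈ A s := fun x =>
    ⟨{x}, IntermediateField.subset_adjoin k _ (by simp)⟩
  have key : ∀ ξ : HH (Spec (CommRingCat.of E)) ((EtCoh.pull (sm k E)).obj F) q, ξ = 0 := by
    intro ξ
    obtain ⟨s, ξ', hξ'⟩ := exists_stage A hA hc F q ξ
    have hfin : FiniteDimensional k (A s) :=
      IntermediateField.finiteDimensional_adjoin (fun x _ => Algebra.IsIntegral.isIntegral x)
    have hi' : IsSquare (-1 : A s) := by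
      refine ⟨⟨i, IntermediateField.subset_adjoin k _ (by simp)⟩, ?_⟩
      apply Subtype.ext
      exact hi
    have hs := subsingleton_of_finite hF htf (A s) hi' q h3 h4
    rw [← hξ', hs.elim ξ' 0, map_zero]
  exact ⟨fun a b => (key a).trans (key b).symm⟩

include hF htf in
/-- **Joint injectivity at the real closures.** -/
theorem eq_zero_of_real (x : HH (Spec (CommRingCat.of k)) F 3)
    (hx : ∀ (L : Type u) [Field L] [Algebra k L] [Algebra.IsAlgebraic k L], IsRC L →
      hp (sm k L) F 3 x = 0) : x = 0 := by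
  have h2 : (2 : k) ≠ 0 := two_ne_zero
  exact Zorn.eq_zero_of_real k h2 F 3
    (fun E _ _ _ hi q h3 h4 => subsingleton_of_sq hF htf E hi q h3 h4) x hx

end Groth.Agent.Dix.K406.NfReal
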