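import Groth.Agent.MilnorK.K767.OmegaIso
import Groth.Agent.MilnorK.K767.CycRel
import Groth.Agent.Dix.K406.ExtRes

/-!
# The cup product with the boundary of a Kummer class

For a field `F` with `2 ≠ 0` and a unit `a`, `psi a ∈ Ext²(ℤ, ℤ)` is the Kummer class of `a` composed with the class
of `0 → ℤ → ℤ → μ₂ → 0`.

* `psiHom` : additivity;
* `psi_norm_comp` : `psi (N c) · x = 0` if `x` vanishes on `Spec E`, `c ∈ Eˣ`;
* `eq_zero_of_psi_comp` : if `psi a · x = 0` and `H^n(E, G) = H^{n+1}(E, G) = 0` for `E = F(√a)`, then `x = 0`.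
-/

set_option autoImplicit false
universe u

open CategoryTheory CategoryTheory.Limits AlgebraicGeometry Opposite CategoryTheory.Abelian
open scoped Groth.Agent.Etcore.EtInst

namespace Groth.Agent.Dix.K406.Psi

open Groth.Agent.Etcore.ModExt Groth.Agent.CurvesA.MuConst Groth.Agent.CurvesA
open Groth.Agent.CurvesA.EtFieldObj Groth.Agent.CurvesA.EtFieldDesc Groth.Agent.CurvesA.EtFieldGm
open Groth.Agent.CurvesA.EtFieldTr Groth.Agent.CurvesA.EtFieldCyc
open K767.Kum K767.KumF K767.CycField K767.Red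

theorem powMap_eq (X : Scheme.{u}) (m : ℕ) : EtCoh.powMap X m = m • 𝟙 (EtCoh.Gm X) := rfl

/-- The homomorphism `ℤ/m → G(X)` attached to an `m`-torsion section. -/
noncomputable def torsHom {X : Scheme.{u}} (m : ℕ) {G : EtCoh.Ab X} (t : EtCoh.sect G (EtCoh.top X))
    (ht : m • t = 0) : ZMod m →+ EtCoh.sect G (EtCoh.top X) :=
  ZMod.lift m ⟨zmultiplesHom _ t, by
    change (m : ℤ) • t = 0
    rw [natCast_zsmul, ht]⟩

theorem torsHom_one {X : Scheme.{u}} (m : ℕ) {G : EtCoh.Ab X} (t : EtCoh.sect G (EtCoh.top X))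
    (ht : m • t = 0) : torsHom m t ht 1 = t := by
  have h2 := ZMod.lift_coe m (⟨zmultiplesHom (EtCoh.sect G (EtCoh.top X)) t, by
    change (m : ℤ) • t = 0
    rw [natCast_zsmul, ht]⟩ : { f : ℤ →+ EtCoh.sect G (EtCoh.top X) // f m = 0 }) 1
  rw [Int.cast_one] at h2
  exact h2.trans (one_zsmul t)

/-- The map `ℤ/m ⟶ G` attached to an `m`-torsion section. -/
noncomputable def ofTors {X : Scheme.{u}} (m : ℕ) {G : EtCoh.Ab X} (t : EtCoh.sect G (EtCoh.top X))
    (ht : m • t = 0) : EtCoh.const X (ZMod m) ⟶ G :=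
  ((EtCore.constAdj X).homEquiv _ _).symm (AddCommGrpCat.ofHom
    ((torsHom m t ht).comp (AddEquiv.ulift (α := ZMod m)).toAddMonoidHom))

theorem ofTors_one {X : Scheme.{u}} (m : ℕ) {G : EtCoh.Ab X} (t : EtCoh.sect G (EtCoh.top X))
    (ht : m • t = 0) : (ofTors m t ht).hom.app (op (EtCoh.top X)) (cstS X (ZMod m) 1) = t := by
  have h1 : (ofTors m t ht).hom.app (op (EtCoh.top X)) (cstS X (ZMod m) 1) =
      ((EtCore.constAdj X).homEquiv _ _ (ofTors m t ht)).hom ⟨1⟩ := by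
    rw [Adjunction.homEquiv_unit]
    rfl
  rw [h1, ofTors, Equiv.apply_symm_apply]
  exact torsHom_one m t ht

theorem zq_oneZ (X : Scheme.{u}) (m : ℕ) :
    (Groth.Agent.Etdl.H439.ConstSES.zq X m).hom.app (op (EtCoh.top X)) (oneZ X) =
      cstS X (ZMod m) 1 := by
  have h2 := (EtCore.constAdj X).unit.naturality (Groth.Agent.Etdl.H439.ConstSES.toZMod.{u} m)
  have h3 := ConcreteCategory.congr_hom h2 (⟨1⟩ : ULift.{u + 1} ℤ)
  refine h3.symm.trans ?_
  change ((EtCore.constAdj X).unit.app (AddCommGrpCat.of (ULift.{u + 1} (ZMod m)))).hom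
    ((Groth.Agent.Etdl.H439.ConstSES.toZMod.{u} m).hom ⟨1⟩) = _
  have h4 : (Groth.Agent.Etdl.H439.ConstSES.toZMod.{u} m).hom ⟨1⟩ = (⟨1⟩ : ULift.{u + 1} (ZMod m)) := by
    apply ULift.down_injective
    exact Int.cast_one
  rw [h4]
  rfl

variable (F : Type u) [Field F]

/-- `0 ⟶ ℤ ⟶ ℤ ⟶ μ₂ ⟶ 0`, `1 ↦ -1`. -/
theorem exists_red (h2 : (2 : F) ≠ 0) :
    ∃ (r : EtCoh.const (Spec (CommRingCat.of F)) ℤ ⟶ EtCoh.mu (Spec (CommRingCat.of F)) 2)
      (w : (2 • 𝟙 (EtCoh.const (Spec (CommRingCat.of F)) ℤ)) ≫ r = 0),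
      (ShortComplex.mk (2 • 𝟙 (EtCoh.const (Spec (CommRingCat.of F)) ℤ)) r w).ShortExact ∧
        r ≫ EtCoh.muι (Spec (CommRingCat.of F)) 2 =
          GalSym.unitMor (Spec (CommRingCat.of F)) (GalSym.specUnit F (-1)) := by
  have hm0 : ((2 : ℕ) : F) ≠ 0 := by exact_mod_cast h2
  have hω : IsPrimitiveRoot (((-1 : Fˣ) : F)) 2 := by
    rw [Units.val_neg, Units.val_one]
    refine IsPrimitiveRoot.mk_of_lt _ two_pos (by norm_num) fun l hl hl2 => ?_
    obtain rfl : l = 1 := by omega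
    rw [pow_one]
    intro h
    apply h2
    have : (1 : F) + 1 = 0 := by
      nth_rewrite 1 [← h]
      exact neg_add_cancel 1
    rw [← one_add_one_eq_two, this]
  obtain ⟨t, ht⟩ := K767.OmegaIso.exists_sec F 2 (-1) hω
  have htt : 2 • t = 0 := nsmul_mu 2 _ t
  have hW := K767.OmegaIso.isIso_of_root F 2 hm0 (-1) hω t ht (ofTors 2 t htt) (ofTors_one 2 t htt)
  obtain ⟨w, hw⟩ := Groth.Agent.Etdl.H439.ConstSES.const_shortExact (Spec (CommRingCat.of F)) 2 two_pos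
  have w' : (2 • 𝟙 (EtCoh.const (Spec (CommRingCat.of F)) ℤ)) ≫
      (Groth.Agent.Etdl.H439.ConstSES.zq (Spec (CommRingCat.of F)) 2 ≫ ofTors 2 t htt) = 0 := by
    rw [← Category.assoc, w, zero_comp]
  refine ⟨Groth.Agent.Etdl.H439.ConstSES.zq (Spec (CommRingCat.of F)) 2 ≫ ofTors 2 t htt, w', ?_, ?_⟩
  · refine ShortComplex.shortExact_of_iso (ShortComplex.isoMk
      (S₁ := ShortComplex.mk (2 • 𝟙 (EtCoh.const (Spec (CommRingCat.of F)) ℤ))
        (Groth.Agent.Etdl.H439.ConstSES.zq (Spec (CommRingCat.of F)) 2) w)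
      (S₂ := ShortComplex.mk (2 • 𝟙 (EtCoh.const (Spec (CommRingCat.of F)) ℤ))
        (Groth.Agent.Etdl.H439.ConstSES.zq (Spec (CommRingCat.of F)) 2 ≫ ofTors 2 t htt) w')
      (Iso.refl _) (Iso.refl _) (asIso (ofTors 2 t htt)) ?_ ?_) hw
    · change 𝟙 _ ≫ (2 • 𝟙 (EtCoh.const (Spec (CommRingCat.of F)) ℤ)) =
        (2 • 𝟙 (EtCoh.const (Spec (CommRingCat.of F)) ℤ)) ≫ 𝟙 _
      rw [Category.id_comp, Category.comp_id]
    · change 𝟙 _ ≫ (Groth.Agent.Etdl.H439.ConstSES.zq (Spec (CommRingCat.of F)) 2 ≫ ofTors 2 t htt) =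
        Groth.Agent.Etdl.H439.ConstSES.zq (Spec (CommRingCat.of F)) 2 ≫ ofTors 2 t htt
      rw [Category.id_comp]
  · apply constZ_hom_ext
    rw [unitMor_one, ← ht]
    change (EtCoh.muι (Spec (CommRingCat.of F)) 2).hom.app _ ((ofTors 2 t htt).hom.app
      (op (EtCoh.top (Spec (CommRingCat.of F))))
        ((Groth.Agent.Etdl.H439.ConstSES.zq (Spec (CommRingCat.of F)) 2).hom.app _ (oneZ _))) = _
    rw [zq_oneZ, ofTors_one]

theorem unitMor_mul (a b : Fˣ) :
    GalSym.unitMor (Spec (CommRingCat.of F)) (GalSym.specUnit F (a * b)) =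
      GalSym.unitMor (Spec (CommRingCat.of F)) (GalSym.specUnit F a) +
        GalSym.unitMor (Spec (CommRingCat.of F)) (GalSym.specUnit F b) := by
  apply constZ_hom_ext
  have h1 : (GalSym.unitMor (Spec (CommRingCat.of F)) (GalSym.specUnit F a) +
        GalSym.unitMor (Spec (CommRingCat.of F)) (GalSym.specUnit F b)).hom.app
          (op (EtCoh.top (Spec (CommRingCat.of F)))) (oneZ _) =
      (GalSym.unitMor (Spec (CommRingCat.of F)) (GalSym.specUnit F a)).hom.app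
          (op (EtCoh.top (Spec (CommRingCat.of F)))) (oneZ _) +
      (GalSym.unitMor (Spec (CommRingCat.of F)) (GalSym.specUnit F b)).hom.app
          (op (EtCoh.top (Spec (CommRingCat.of F)))) (oneZ _) := rfl
  rw [h1, unitMor_one, unitMor_one, unitMor_one, GalSym.specUnit, map_mul]
  rfl

/-- The map `ℤ_X ⟶ G` attached to a global section. -/
noncomputable def trZ {X : Scheme.{u}} {G : EtCoh.Ab X} (s : EtCoh.sect G (EtCoh.top X)) :
    EtCoh.const X ℤ ⟶ G :=
  ((EtCore.constAdj X).homEquiv _ _).symm (AddCommGrpCat.ofHom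
    ((zmultiplesHom _ s).comp (AddEquiv.ulift (α := ℤ)).toAddMonoidHom))

theorem trZ_one {X : Scheme.{u}} {G : EtCoh.Ab X} (s : EtCoh.sect G (EtCoh.top X)) :
    (trZ s).hom.app (op (EtCoh.top X)) (oneZ X) = s := by
  rw [trZ, constZ_symm_one]
  exact one_zsmul _

/-- The transfer `ℤ ⟶ ℤ[Spec E]`. -/
theorem exists_transfer_ZL (E : Type u) [Field E] [Algebra F E] [FiniteDimensional F E]
    [Algebra.IsSeparable F E] :
    ∃ t : EtCoh.const (Spec (CommRingCat.of F)) ℤ ⟶ ZL F E, ∀ c : Eˣ,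
      t ≫ K767.CycRel.gmS (F := F) c = GalSym.unitMor (Spec (CommRingCat.of F))
        (GalSym.specUnit F (Units.map (Algebra.norm F : E →* F) c)) := by
  obtain ⟨s, hs⟩ := exists_transfer_sec (F := F) E
  refine ⟨trZ s ≫ (K767.CycRel.zz (F := F) E).inv, fun c => ?_⟩
  have h1 : (K767.CycRel.zz (F := F) E).inv ≫ K767.CycRel.gmS (F := F) c =
      zdesc (gm (K := F) (Additive.ofMul c)) := by
    rw [Iso.inv_comp_eq]
    apply SiteZU.ev_injective.{u + 1}
    rw [SiteZU.ev_comp.{u + 1}, K767.CycRel.gmS, SiteZU.ev_lift.{u + 1}, K767.CycRel.zz, SiteZU.ev_lift.{u + 1}]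
    exact (zdesc_zgen _).symm
  rw [Category.assoc, h1]
  apply constZ_hom_ext
  rw [unitMor_one, ← hs c]
  exact (congrArg ((zdesc (gm (K := F) (Additive.ofMul c))).hom.app
    (op (EtCoh.top (Spec (CommRingCat.of F))))) (trZ_one s))

section

variable {F} {r : EtCoh.const (Spec (CommRingCat.of F)) ℤ ⟶ EtCoh.mu (Spec (CommRingCat.of F)) 2}
  {wB : (2 • 𝟙 (EtCoh.const (Spec (CommRingCat.of F)) ℤ)) ≫ r = 0}
  (hB : (ShortComplex.mk (2 • 𝟙 (EtCoh.const (Spec (CommRingCat.of F)) ℤ)) r wB).ShortExact)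
  (hr : r ≫ EtCoh.muι (Spec (CommRingCat.of F)) 2 =
    GalSym.unitMor (Spec (CommRingCat.of F)) (GalSym.specUnit F (-1)))
  (hm : Epi (EtCoh.powMap (Spec (CommRingCat.of F)) 2))

/-- The class of degree two attached to a unit. -/
noncomputable def psi (a : Fˣ) : Ext.{u + 1} (EtCoh.const (Spec (CommRingCat.of F)) ℤ)
    (EtCoh.const (Spec (CommRingCat.of F)) ℤ) 2 :=
  ((Ext.mk₀ (GalSym.unitMor _ (GalSym.specUnit F a))).comp (EtSix.kummerShortExact hm).extClass
    (zero_add 1)).comp hB.extClass (rfl : 1 + 1 = 2)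

theorem psi_mul (a b : Fˣ) : psi hB hm (a * b) = psi hB hm a + psi hB hm b := by
  rw [psi, unitMor_mul, Ext.mk₀_add, Ext.add_comp, Ext.add_comp]
  rfl

/-- `psi` as a homomorphism. -/
noncomputable def psiHom : Additive Fˣ →+ Ext.{u + 1} (EtCoh.const (Spec (CommRingCat.of F)) ℤ)
    (EtCoh.const (Spec (CommRingCat.of F)) ℤ) 2 :=
  AddMonoidHom.mk' (fun a => psi hB hm a.toMul) fun a b => psi_mul hB hm a.toMul b.toMul

theorem psiHom_apply (a : Fˣ) : psiHom hB hm (Additive.ofMul a) = psi hB hm a := rfl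

/-- `psi (N c) · x = 0` if `x` vanishes on `Spec E`. -/
theorem psi_norm_comp (E : Type u) [Field E] [Algebra F E] [FiniteDimensional F E]
    [Algebra.IsSeparable F E] (c : Eˣ) {G : EtCoh.Ab (Spec (CommRingCat.of F))} {n m : ℕ}
    (h : 2 + n = m) (x : Ext.{u + 1} (EtCoh.const (Spec (CommRingCat.of F)) ℤ) G n)
    [PreservesFiniteLimits (EtCoh.pull (Spec.map (CommRingCat.ofHom (algebraMap F E))))]
    (hx : (x.mapExactFunctor (EtCoh.pull (Spec.map (CommRingCat.ofHom (algebraMap F E)))) :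
      Ext.{u + 1} _ _ n) = 0) :
    (psi hB hm (Units.map (Algebra.norm F : E →* F) c)).comp x h = 0 := by
  obtain ⟨t, ht⟩ := exists_transfer_ZL F E
  let y : Ext.{u + 1} (ZL F E) (EtCoh.const (Spec (CommRingCat.of F)) ℤ) 2 :=
    ((Ext.mk₀ (K767.CycRel.gmS (F := F) c)).comp (EtSix.kummerShortExact hm).extClass (zero_add 1)).comp
      hB.extClass (rfl : 1 + 1 = 2)
  have h1 : psi hB hm (Units.map (Algebra.norm F : E →* F) c) = (Ext.mk₀ t).comp y (zero_add 2) := by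
    rw [psi, ← ht c, ← Ext.mk₀_comp_mk₀, Ext.comp_assoc_of_second_deg_zero]
    exact Ext.comp_assoc _ _ _ _ _ (by omega)
  have h2 : y.comp x h = 0 := ExtRes.comp_eq_zero_of_pull (etObj F E) h y x hx
  rw [h1, Ext.comp_assoc _ _ _ (zero_add 2) h (by omega), h2, Ext.comp_zero]

include hr in
/-- `psi a` is the class of the cyclic resolution of `F(√a)`. -/
theorem psi_eq (E : Type u) [Field E] [Algebra F E] [FiniteDimensional F E] [IsGalois F E]
    (σ : E ≃ₐ[F] E) (hord : orderOf σ = 2) (a : Fˣ) (α : Eˣ)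
    (hα : α ^ 2 = Units.map (algebraMap F E : F →* E) a) (hσα : σ (α : E) = -α)
    {A : EtCoh.Ab (Spec (CommRingCat.of F))} {i : A ⟶ ZL F E} {w₁ : i ≫ eps E = 0}
    {t : EtCoh.const (Spec (CommRingCat.of F)) ℤ ⟶ ZL F E} {p : ZL F E ⟶ A} {w₂ : t ≫ p = 0}
    (h₁ : (ShortComplex.mk i (eps E) w₁).ShortExact) (h₂ : (ShortComplex.mk t p w₂).ShortExact)
    (hpi : p ≫ i = D (K := F) σ) (htε : t ≫ eps E = orderOf σ • 𝟙 _) :
    psi hB hm a = h₁.extClass.comp h₂.extClass (rfl : 1 + 1 = 2) := by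
  rw [hord] at htε
  have hpe : Epi p := h₂.epi_g
  have hq0 : t ≫ eps E ≫ r = 0 := by rw [← Category.assoc, htε, wB]
  let q := h₂.gIsCokernel.desc (CokernelCofork.ofπ _ hq0)
  have hq : p ≫ q = eps E ≫ r :=
    h₂.gIsCokernel.fac (CokernelCofork.ofπ _ hq0) WalkingParallelPair.one
  have e1 : h₂.extClass = (Ext.mk₀ q).comp hB.extClass (zero_add 1) := by
    have h3 := ShortComplex.ShortExact.extClass_naturality h₂ hB
      { τ₁ := 𝟙 _
        τ₂ := eps E
        τ₃ := q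
        comm₁₂ := by
          change 𝟙 _ ≫ (2 • 𝟙 _) = t ≫ eps E
          rw [Category.id_comp, htε]
        comm₂₃ := hq.symm }
    rw [← h3]
    exact (Ext.comp_mk₀_id _).symm
  have e2 : h₁.extClass.comp (Ext.mk₀ q) (add_zero 1) =
      (Ext.mk₀ (GalSym.unitMor _ (GalSym.specUnit F a))).comp (EtSix.kummerShortExact hm).extClass
        (zero_add 1) := by
    have h3 := ShortComplex.ShortExact.extClass_naturality h₁ (EtSix.kummerShortExact hm)
      { τ₁ := q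
        τ₂ := gmL (F := F) α
        τ₃ := GalSym.unitMor _ (GalSym.specUnit F a)
        comm₁₂ := by
          change q ≫ EtCoh.muι (Spec (CommRingCat.of F)) 2 = i ≫ gmL (F := F) α
          rw [← cancel_epi p, ← Category.assoc, hq, ← Category.assoc, hpi, D_gmL, Category.assoc, hr,
            eps_unitMor]
          congr 1
          apply Units.ext
          rw [Units.val_mul, Units.val_inv_eq_inv_val]
          change algebraMap F E (-1) = σ (α : E) * (α : E)⁻¹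
          rw [hσα, neg_mul, mul_inv_cancel₀ α.ne_zero, map_neg, map_one]
        comm₂₃ := by
          change gmL (F := F) α ≫ EtCoh.powMap (Spec (CommRingCat.of F)) 2 = eps E ≫ GalSym.unitMor _ _
          rw [eps_unitMor, ← hα, gmL_pow, powMap_eq, Preadditive.comp_nsmul,
            Category.comp_id] }
    exact h3
  have e3 : psi hB hm a = (h₁.extClass.comp (Ext.mk₀ q) (add_zero 1)).comp hB.extClass
      (rfl : 1 + 1 = 2) := by
    rw [e2]
    rfl
  rw [e3, e1]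
  exact Ext.comp_assoc_of_second_deg_zero _ _ _ _

include hr in
/-- If `psi a · x = 0` and `H^n(E, G) = H^{n+1}(E, G) = 0` for `E = F(√a)`, then `x = 0`. -/
theorem eq_zero_of_psi_comp (E : Type u) [Field E] [Algebra F E] [FiniteDimensional F E] [IsGalois F E]
    (σ : E ≃ₐ[F] E) (hσ : ∀ g : E ≃ₐ[F] E, ∃ i : ℕ, g = σ ^ i) (hord : orderOf σ = 2) (a : Fˣ) (α : Eˣ)
    (hα : α ^ 2 = Units.map (algebraMap F E : F →* E) a) (hσα : σ (α : E) = -α)
    {G : EtCoh.Ab (Spec (CommRingCat.of F))} {n m : ℕ} (h : 2 + n = m)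
    (hv : ∀ z : Ext.{u + 1} (ZL F E) G n, z = 0) (hv' : ∀ z : Ext.{u + 1} (ZL F E) G (n + 1), z = 0)
    (x : Ext.{u + 1} (EtCoh.const (Spec (CommRingCat.of F)) ℤ) G n)
    (hx : (psi hB hm a).comp x h = 0) : x = 0 := by
  obtain ⟨A, i, w₁, t, p, w₂, h₁, h₂, hpi, hεt, htε⟩ := exists_data (F := F) σ hσ
  rw [psi_eq hB hr hm E σ hord a α hα hσα h₁ h₂ hpi htε] at hx
  have h3 : h₁.extClass.comp (h₂.extClass.comp x (add_comm 1 n)) (by omega : 1 + (n + 1) = m) = 0 := by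
    rw [← hx]
    exact (Ext.comp_assoc _ _ _ _ _ (by omega)).symm
  obtain ⟨z, hz⟩ := Ext.contravariant_sequence_exact₁ h₁ G (h₂.extClass.comp x (add_comm 1 n))
    (by omega : 1 + (n + 1) = m) h3
  rw [hv' z, Ext.comp_zero] at hz
  obtain ⟨z', hz'⟩ := Ext.contravariant_sequence_exact₁ h₂ G x (add_comm 1 n) hz.symm
  rw [← hz', hv z', Ext.comp_zero]

end

end Groth.Agent.Dix.K406.Psi
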